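import Groth.Agent.L10.RDer.SESMor
import Mathlib.CategoryTheory.Abelian.Injective.Resolution
import Mathlib.Algebra.Homology.Refinements
import Mathlib.Algebra.Homology.HomologicalComplexAbelian

/-! The horseshoe lemma and the long exact sequence of right derived functors. -/

universe v u v' u'

open CategoryTheory CategoryTheory.Limits

set_option backward.defeqAttrib.useBackward true
set_option backward.isDefEq.respectTransparency false
namespace Groth.L10.RDerSES

variable {C : Type u} [Category.{v} C] [Abelian C] {S : ShortComplex C} (hS : S.ShortExact)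
  (I₁ : InjectiveResolution S.X₁) (I₃ : InjectiveResolution S.X₃)

/-- The condition on a twisting component. -/
def TwOk (n : ℕ) (τ : I₃.cocomplex.X n ⟶ I₁.cocomplex.X (n + 1)) : Prop :=
  ∀ ⦃P : C⦄ (z : P ⟶ I₃.cocomplex.X n), z ≫ I₃.cocomplex.d n (n + 1) = 0 →
    z ≫ τ ≫ I₁.cocomplex.d (n + 1) (n + 2) = 0

include hS in
theorem exists_start : ∃ (a : S.X₂ ⟶ I₁.cocomplex.X 0) (τ : I₃.cocomplex.X 0 ⟶ I₁.cocomplex.X 1),
    S.f ≫ a = I₁.ι.f 0 ∧ a ≫ I₁.cocomplex.d 0 1 + S.g ≫ I₃.ι.f 0 ≫ τ = 0 ∧ TwOk I₁ I₃ 0 τ := by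
  have := hS.mono_f
  have := hS.epi_g
  let a : S.X₂ ⟶ I₁.cocomplex.X 0 := Injective.factorThru (show S.X₁ ⟶ I₁.cocomplex.X 0 from I₁.ι.f 0) S.f
  have ha : S.f ≫ a = I₁.ι.f 0 := Injective.comp_factorThru _ _
  have hz : S.f ≫ a ≫ I₁.cocomplex.d 0 1 = 0 := by rw [reassoc_of% ha]; exact I₁.ι_f_zero_comp_complex_d
  let γ : S.X₃ ⟶ I₁.cocomplex.X 1 := hS.exact.desc (a ≫ I₁.cocomplex.d 0 1) hz
  have hγ : S.g ≫ γ = a ≫ I₁.cocomplex.d 0 1 := hS.exact.g_desc _ hz
  let ι₃ : S.X₃ ⟶ I₃.cocomplex.X 0 := I₃.ι.f 0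
  have : Mono ι₃ := inferInstanceAs (Mono (I₃.ι.f 0))
  obtain ⟨τ, hτ⟩ : ∃ τ, ι₃ ≫ τ = -γ := ⟨Injective.factorThru (-γ) ι₃, Injective.comp_factorThru _ _⟩
  refine ⟨a, τ, ha, ?_, fun P z hz => ?_⟩
  · change _ + S.g ≫ ι₃ ≫ τ = 0
    rw [hτ, Preadditive.comp_neg, hγ, add_neg_cancel]
  · obtain ⟨x, hx⟩ := cycle₀ I₃ z hz
    obtain ⟨P', π, hπ, x', hx'⟩ := surjective_up_to_refinements_of_epi S.g x
    rw [← hx, ← cancel_epi π, comp_zero, Category.assoc, reassoc_of% hx']
    change x' ≫ S.g ≫ ι₃ ≫ τ ≫ _ = 0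
    rw [reassoc_of% hτ, Preadditive.neg_comp, Preadditive.comp_neg, reassoc_of% hγ, I₁.complex_d_comp]
    simp

theorem exists_next (n : ℕ) (τ : I₃.cocomplex.X n ⟶ I₁.cocomplex.X (n + 1)) (h : TwOk I₁ I₃ n τ) :
    ∃ τ' : I₃.cocomplex.X (n + 1) ⟶ I₁.cocomplex.X (n + 1 + 1),
      τ ≫ I₁.cocomplex.d (n + 1) (n + 1 + 1) + I₃.cocomplex.d n (n + 1) ≫ τ' = 0 ∧ TwOk I₁ I₃ (n + 1) τ' := by
  obtain ⟨τ', hτ'⟩ := exists_factor (I₃.cocomplex.d n (n + 1)) (-(τ ≫ I₁.cocomplex.d (n + 1) (n + 1 + 1)))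
    (fun P z hz => by rw [Preadditive.comp_neg, h z hz, neg_zero])
  refine ⟨τ', by rw [hτ', add_neg_cancel], fun P z hz => ?_⟩
  obtain ⟨P', π, hπ, c, hc⟩ := cycle_succ I₃ n z hz
  rw [← cancel_epi π, comp_zero, reassoc_of% hc, reassoc_of% hτ']
  simp

/-- The twisting components. -/
noncomputable def tw : ∀ n, {τ : I₃.cocomplex.X n ⟶ I₁.cocomplex.X (n + 1) // TwOk I₁ I₃ n τ}
  | 0 => ⟨(exists_start hS I₁ I₃).choose_spec.choose, (exists_start hS I₁ I₃).choose_spec.choose_spec.2.2⟩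
  | n + 1 => ⟨(exists_next I₁ I₃ n (tw n).1 (tw n).2).choose, (exists_next I₁ I₃ n (tw n).1 (tw n).2).choose_spec.2⟩

theorem tw_spec (n : ℕ) :
    (tw hS I₁ I₃ n).1 ≫ I₁.cocomplex.d (n + 1) (n + 1 + 1) + I₃.cocomplex.d n (n + 1) ≫ (tw hS I₁ I₃ (n + 1)).1 = 0 :=
  (exists_next I₁ I₃ n (tw hS I₁ I₃ n).1 (tw hS I₁ I₃ n).2).choose_spec.1

/-- The middle differential. -/
noncomputable def midD (n : ℕ) : I₁.cocomplex.X n ⊞ I₃.cocomplex.X n ⟶ I₁.cocomplex.X (n + 1) ⊞ I₃.cocomplex.X (n + 1) :=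
  biprod.lift (biprod.desc (I₁.cocomplex.d n (n + 1)) (tw hS I₁ I₃ n).1) (biprod.snd ≫ I₃.cocomplex.d n (n + 1))

theorem midD_sq (n : ℕ) : midD hS I₁ I₃ n ≫ midD hS I₁ I₃ (n + 1) = 0 := by
  have e := tw_spec hS I₁ I₃ n
  apply biprod.hom_ext <;> apply biprod.hom_ext' <;>
    simp [midD, biprod.desc_eq, Preadditive.comp_add, Preadditive.add_comp]
  exact e

/-- The middle complex. -/
noncomputable abbrev midCx : CochainComplex C ℕ :=
  CochainComplex.of (fun n => I₁.cocomplex.X n ⊞ I₃.cocomplex.X n) (midD hS I₁ I₃) (midD_sq hS I₁ I₃)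

theorem midCx_d (n : ℕ) : (midCx hS I₁ I₃).d n (n + 1) = midD hS I₁ I₃ n := by simp [midCx]

/-- The first map. -/
noncomputable def inc : I₁.cocomplex ⟶ midCx hS I₁ I₃ where
  f n := biprod.inl
  comm' i j hij := by
    obtain rfl : i + 1 = j := hij
    rw [midCx_d]
    apply biprod.hom_ext <;> simp [midD]

/-- The second map. -/
noncomputable def prj : midCx hS I₁ I₃ ⟶ I₃.cocomplex where
  f n := biprod.snd
  comm' i j hij := by
    obtain rfl : i + 1 = j := hij
    rw [midCx_d]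
    simp [midD]

/-- The augmentation in degree zero. -/
noncomputable def aug : S.X₂ ⟶ (midCx hS I₁ I₃).X 0 :=
  biprod.lift (exists_start hS I₁ I₃).choose (S.g ≫ (show S.X₃ ⟶ I₃.cocomplex.X 0 from I₃.ι.f 0))

theorem aug_d : aug hS I₁ I₃ ≫ (midCx hS I₁ I₃).d 0 1 = 0 := by
  have h := (exists_start hS I₁ I₃).choose_spec.choose_spec.2.1
  refine (congrArg (aug hS I₁ I₃ ≫ ·) (midCx_d hS I₁ I₃ 0)).trans ?_
  apply biprod.hom_ext
  · simp only [aug, midD, biprod.lift_fst, Category.assoc, biprod.lift_desc, zero_comp]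
    exact h
  · simp [aug, midD]

/-- The augmentation. -/
noncomputable def midι : (CochainComplex.single₀ C).obj S.X₂ ⟶ midCx hS I₁ I₃ :=
  ((midCx hS I₁ I₃).fromSingle₀Equiv S.X₂).symm ⟨aug hS I₁ I₃, aug_d hS I₁ I₃⟩

theorem midι_zero : (midι hS I₁ I₃).f 0 = aug hS I₁ I₃ :=
  by
    change (HomologicalComplex.mkHomFromSingle (aug hS I₁ I₃) (fun k hk => by
      obtain rfl : 0 + 1 = k := hk
      exact aug_d hS I₁ I₃)).f 0 = _
    rw [HomologicalComplex.mkHomFromSingle_f]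
    exact Category.id_comp _

theorem shortExact_mid (w : inc hS I₁ I₃ ≫ prj hS I₁ I₃ = 0) :
    (ShortComplex.mk (inc hS I₁ I₃) (prj hS I₁ I₃) w).ShortExact :=
  HomologicalComplex.shortExact_of_degreewise_shortExact _ fun n =>
    ({ r := biprod.fst, s := biprod.inr, f_r := biprod.inl_fst, s_g := biprod.inr_snd, id := biprod.total } :
      ((ShortComplex.mk (inc hS I₁ I₃) (prj hS I₁ I₃) w).map (HomologicalComplex.eval C _ n)).Splitting).shortExact

theorem mono_aug : Mono (aug hS I₁ I₃) := by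
  refine Preadditive.mono_of_cancel_zero _ fun {P} x hx => ?_
  have := hS.mono_f
  have e1 := congrArg (· ≫ biprod.fst) hx
  have e2 := congrArg (· ≫ biprod.snd) hx
  simp only [aug, Category.assoc, biprod.lift_fst, biprod.lift_snd, zero_comp] at e1 e2
  have : Mono (show S.X₃ ⟶ I₃.cocomplex.X 0 from I₃.ι.f 0) := inferInstanceAs (Mono (I₃.ι.f 0))
  rw [← Category.assoc] at e2
  have hg : x ≫ S.g = 0 := (cancel_mono _).1 (e2.trans zero_comp.symm)
  have hl : hS.exact.lift x hg ≫ S.f = x := hS.exact.lift_f x hg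
  rw [← hl, Category.assoc, (exists_start hS I₁ I₃).choose_spec.choose_spec.1] at e1
  have : Mono (I₁.ι.f 0) := inferInstance
  rw [← hl, (cancel_mono (I₁.ι.f 0)).1 (e1.trans zero_comp.symm), zero_comp]

theorem lift_aug {P : C} (y : P ⟶ (midCx hS I₁ I₃).X 0) (hy : y ≫ (midCx hS I₁ I₃).d 0 1 = 0) :
    ∃ (P' : C) (π : P' ⟶ P) (_ : Epi π) (x : P' ⟶ S.X₂), π ≫ y = x ≫ aug hS I₁ I₃ := by
  have hy' : y ≫ midD hS I₁ I₃ 0 = 0 := (congrArg (y ≫ ·) (midCx_d hS I₁ I₃ 0)).symm.trans hy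
  obtain ⟨p, q, rfl⟩ : ∃ p q, y = biprod.lift p q := ⟨y ≫ biprod.fst, y ≫ biprod.snd, by ext <;> simp⟩
  have e1 := congrArg (· ≫ biprod.fst) hy'
  have e2 := congrArg (· ≫ biprod.snd) hy'
  simp only [midD, Category.assoc, biprod.lift_fst, biprod.lift_snd, biprod.lift_desc, biprod.lift_snd_assoc,
    zero_comp] at e1 e2
  obtain ⟨x, hx⟩ := cycle₀ I₃ q e2
  have := hS.epi_g
  obtain ⟨P₁, π₁, hπ₁, x', hx'⟩ := surjective_up_to_refinements_of_epi S.g x
  have h0 := (exists_start hS I₁ I₃).choose_spec.choose_spec.2.1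
  obtain ⟨w, hw⟩ := cycle₀ I₁ (π₁ ≫ p - x' ≫ (exists_start hS I₁ I₃).choose) (by
    have e : π₁ ≫ q = x' ≫ S.g ≫ I₃.ι.f 0 := by rw [← hx, reassoc_of% hx']
    have e' := congrArg (π₁ ≫ ·) e1
    simp only [Preadditive.comp_add, comp_zero] at e'
    rw [reassoc_of% e] at e'
    rw [Preadditive.sub_comp, Category.assoc, Category.assoc, eq_neg_of_add_eq_zero_left h0, Preadditive.comp_neg,
      sub_neg_eq_add]
    exact e')
  refine ⟨P₁, π₁, hπ₁, x' + w ≫ S.f, ?_⟩
  rw [Preadditive.add_comp, Category.assoc]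
  apply biprod.hom_ext
  · simp only [aug, Category.assoc, biprod.lift_fst, Preadditive.add_comp,
      (exists_start hS I₁ I₃).choose_spec.choose_spec.1]
    rw [hw]; abel
  · simp only [aug, Category.assoc, biprod.lift_snd, Preadditive.add_comp, reassoc_of% S.zero, zero_comp,
      comp_zero, add_zero]
    rw [← hx, reassoc_of% hx']

theorem quasiIso_midι : QuasiIso (midι hS I₁ I₃) := by
  have w : inc hS I₁ I₃ ≫ prj hS I₁ I₃ = 0 := HomologicalComplex.hom_ext _ _ fun n => biprod.inl_snd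
  rw [quasiIso_iff]
  intro n
  cases n with
  | zero =>
    rw [quasiIsoAt_iff_isIso_homologyMap]
    have hE : Epi (HomologicalComplex.homologyMap (midι hS I₁ I₃) 0) := by
      rw [HomologicalComplex.epi_homologyMap_iff_up_to_refinements _ 0 0 1 (by simp) (by simp)]
      intro P y hy
      obtain ⟨P', π, hπ, x, hx⟩ := lift_aug hS I₁ I₃ y hy
      refine ⟨P', π, hπ, x, by simp, 0, ?_⟩
      rw [zero_comp, add_zero, midι_zero]
      exact hx
    have hM : Mono (HomologicalComplex.homologyMap (midι hS I₁ I₃) 0) := by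
      rw [HomologicalComplex.mono_homologyMap_iff_up_to_refinements _ 0 0 1 (by simp) (by simp)]
      intro P x hx y hy
      have : Mono ((midι hS I₁ I₃).f 0) := by rw [midι_zero]; exact mono_aug hS I₁ I₃
      refine ⟨P, 𝟙 P, inferInstance, 0, ?_⟩
      rw [zero_comp, Category.id_comp, ← cancel_mono ((midι hS I₁ I₃).f 0), zero_comp, hy,
        HomologicalComplex.shape _ _ _ (by simp), comp_zero]
    exact isIso_of_mono_of_epi _
  | succ k =>
    rw [quasiIsoAt_iff_exactAt _ _ (CochainComplex.exactAt_succ_single_obj _ _)]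
    exact (shortExact_mid hS I₁ I₃ w).exactAt_X₂ _
      (I₁.cocomplex_exactAt_succ k) (I₃.cocomplex_exactAt_succ k)

/-- The horseshoe resolution. -/
noncomputable def sesRes : RDer.SESRes S where
  I₁ := I₁
  I₂ :=
    { cocomplex := midCx hS I₁ I₃
      injective := fun n => inferInstanceAs (Injective (I₁.cocomplex.X n ⊞ I₃.cocomplex.X n))
      ι := midι hS I₁ I₃
      quasiIso := quasiIso_midι hS I₁ I₃ }
  I₃ := I₃
  f := inc hS I₁ I₃
  g := prj hS I₁ I₃
  zero := HomologicalComplex.hom_ext _ _ fun n => biprod.inl_snd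
  ι_f := by
    apply HomologicalComplex.from_single_hom_ext
    rw [HomologicalComplex.comp_f, HomologicalComplex.comp_f, CochainComplex.single₀_map_f_zero, midι_zero]
    apply biprod.hom_ext
    · exact ((Category.assoc _ _ _).trans (congrArg (I₁.ι.f 0 ≫ ·) biprod.inl_fst)).trans
        ((Category.comp_id _).trans (((Category.assoc _ _ _).trans (congrArg (S.f ≫ ·) (biprod.lift_fst _ _))).trans
          (exists_start hS I₁ I₃).choose_spec.choose_spec.1).symm)
    · exact ((Category.assoc _ _ _).trans ((congrArg (I₁.ι.f 0 ≫ ·) biprod.inl_snd).trans comp_zero)).trans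
        ((Category.assoc _ _ _).trans ((congrArg (S.f ≫ ·) (biprod.lift_snd _ _)).trans
          ((Category.assoc S.f S.g (show S.X₃ ⟶ I₃.cocomplex.X 0 from I₃.ι.f 0)).symm.trans ((congrArg (fun t : S.X₁ ⟶ S.X₃ => t ≫ (show S.X₃ ⟶ I₃.cocomplex.X 0 from I₃.ι.f 0)) S.zero).trans zero_comp)))).symm
  ι_g := by
    apply HomologicalComplex.from_single_hom_ext
    rw [HomologicalComplex.comp_f, HomologicalComplex.comp_f, CochainComplex.single₀_map_f_zero, midι_zero]
    exact biprod.lift_snd _ _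
  shortExact := shortExact_mid hS I₁ I₃ _

variable [HasInjectiveResolutions C] {D : Type u'} [Category.{v'} D] [Abelian D] (F : C ⥤ D) [F.Additive]

include hS in
theorem nonempty_sesRes : Nonempty (RDer.SESRes S) :=
  ⟨sesRes hS (injectiveResolution S.X₁) (injectiveResolution S.X₃)⟩

include hS in
theorem delta_indep (T T' : RDer.SESRes S) (n₀ n₁ : ℕ) (h : n₀ + 1 = n₁) : T.delta F n₀ n₁ h = T'.delta F n₀ n₁ h := by
  have := delta_natural T T' (𝟙 S) hS F n₀ n₁ h
  simpa using this.symm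

omit [HasInjectiveResolutions C] in
theorem shortExact_of_sesRes (T : RDer.SESRes S) : S.ShortExact := by
  have h0 := T.shortExact.map_of_exact (HomologicalComplex.eval C _ 0)
  have e := HomologicalComplex.congr_hom T.ι_f 0
  have e' := HomologicalComplex.congr_hom T.ι_g 0
  simp only [HomologicalComplex.comp_f, CochainComplex.single₀_map_f_zero] at e e'
  have : Mono (T.f.f 0) := h0.mono_f
  have : Mono S.f := Preadditive.mono_of_cancel_zero _ fun {P} x hx => by
    rw [← cancel_mono (T.I₁.ι.f 0), ← cancel_mono (T.f.f 0)]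
    simp only [Category.assoc, e, reassoc_of% hx, zero_comp, comp_zero]
  have hsurj : ∀ {P : C} (x : P ⟶ S.X₃), ∃ (P' : C) (π : P' ⟶ P) (_ : Epi π) (y : P' ⟶ S.X₂), π ≫ x = y ≫ S.g := by
    intro P x
    have : Epi (T.g.f 0) := h0.epi_g
    obtain ⟨P₁, π₁, hπ₁, a, ha⟩ := surjective_up_to_refinements_of_epi (T.g.f 0) (x ≫ T.I₃.ι.f 0)
    have h1 := T.shortExact.map_of_exact (HomologicalComplex.eval C _ 1)
    have hm : Mono (T.f.f 1) := h1.mono_f
    have hz : (a ≫ T.I₂.cocomplex.d 0 1) ≫ T.g.f 1 = 0 := by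
      rw [Category.assoc, ← T.g.comm, ← reassoc_of% ha, T.I₃.ι_f_zero_comp_complex_d]
      exact ((congrArg (π₁ ≫ ·) comp_zero).trans comp_zero)
    have := h1.mono_f
    let c : P₁ ⟶ T.I₁.cocomplex.X 1 := h1.exact.lift _ hz
    have hc : c ≫ T.f.f 1 = a ≫ T.I₂.cocomplex.d 0 1 := h1.exact.lift_f _ hz
    have hcd : c ≫ T.I₁.cocomplex.d 1 2 = 0 := by
      have : Mono (T.f.f 2) := (T.shortExact.map_of_exact (HomologicalComplex.eval C _ 2)).mono_f
      rw [← cancel_mono (T.f.f 2), Category.assoc, ← T.f.comm, reassoc_of% hc, T.I₂.complex_d_comp, comp_zero, zero_comp]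
    obtain ⟨P₂, π₂, hπ₂, c', hc'⟩ := cycle_succ T.I₁ 0 c hcd
    obtain ⟨y, hy⟩ := cycle₀ T.I₂ (π₂ ≫ a - c' ≫ T.f.f 0) (by
      rw [Preadditive.sub_comp, Category.assoc, Category.assoc, T.f.comm, ← reassoc_of% hc', hc, sub_self])
    refine ⟨P₂, π₂ ≫ π₁, epi_comp _ _, y, ?_⟩
    refine (cancel_mono (T.I₃.ι.f 0)).1 ?_
    have := congrArg (· ≫ T.g.f 0) hy
    simp only [Category.assoc, e', Preadditive.sub_comp, ← HomologicalComplex.comp_f, T.zero,
      HomologicalComplex.zero_f, comp_zero, sub_zero] at this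
    simp only [Category.assoc]
    rw [ha]
    exact this.symm
  have : Epi S.g := Preadditive.epi_of_cancel_zero _ fun {P} w hw => by
    obtain ⟨P', π, hπ, y, hy⟩ := hsurj (𝟙 S.X₃)
    rw [Category.comp_id] at hy
    rw [← cancel_epi π, comp_zero, hy, Category.assoc, hw, comp_zero]
  refine { exact := ?_ }
  rw [ShortComplex.exact_iff_exact_up_to_refinements]
  intro P x hx
  obtain ⟨a, ha⟩ := deg_exact T 0 (x ≫ T.I₂.ι.f 0) (by
    rw [Category.assoc, e', reassoc_of% hx]; exact zero_comp)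
  have : Mono (T.f.f 1) := (T.shortExact.map_of_exact (HomologicalComplex.eval C _ 1)).mono_f
  obtain ⟨w, hw⟩ := cycle₀ T.I₁ a (by
    rw [← cancel_mono (T.f.f 1), Category.assoc, ← T.f.comm, reassoc_of% ha, T.I₂.ι_f_zero_comp_complex_d, zero_comp]
    exact comp_zero)
  refine ⟨P, 𝟙 P, inferInstance, w, ?_⟩
  refine (cancel_mono (T.I₂.ι.f 0)).1 ?_
  rw [Category.id_comp, Category.assoc, ← e, reassoc_of% hw, ha]

/-- Any resolution can be used to compute the long sequence. -/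
noncomputable def mkLES : RDer.DerivedLES F where
  δ S hS n₀ n₁ h := (nonempty_sesRes hS).some.delta F n₀ n₁ h
  δ_eq S hS T n₀ n₁ h := delta_indep hS F _ T n₀ n₁ h
  δ_natural hS hS' φ n₀ n₁ h := delta_natural _ _ φ hS F n₀ n₁ h
  exact₂ S hS n := by
    let T := (nonempty_sesRes hS).some
    have e := HomologicalComplex.congr_hom T.ι_f 0
    have e' := HomologicalComplex.congr_hom T.ι_g 0
    simp only [HomologicalComplex.comp_f, CochainComplex.single₀_map_f_zero] at e e'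
    refine (ShortComplex.exact_iff_of_iso ?_).2 ((T.map_shortExact F).homology_exact₂ n)
    exact ShortComplex.isoMk (T.I₁.isoRightDerivedObj F n) (T.I₂.isoRightDerivedObj F n) (T.I₃.isoRightDerivedObj F n)
      (InjectiveResolution.isoRightDerivedObj_hom_naturality S.f T.I₁ T.I₂ T.f e F n).symm
      (InjectiveResolution.isoRightDerivedObj_hom_naturality S.g T.I₂ T.I₃ T.g e' F n).symm
  comp_δ S hS n₀ n₁ h := by
    let T := (nonempty_sesRes hS).some
    have e' := HomologicalComplex.congr_hom T.ι_g 0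
    simp only [HomologicalComplex.comp_f, CochainComplex.single₀_map_f_zero] at e'
    rw [← cancel_mono (T.I₁.isoRightDerivedObj F n₁).hom, Category.assoc, T.delta_comp_isoRightDerivedObj_hom,
      reassoc_of% (InjectiveResolution.isoRightDerivedObj_hom_naturality S.g T.I₂ T.I₃ T.g e' F n₀), zero_comp]
    exact (congrArg (_ ≫ ·) ((T.map_shortExact F).comp_δ n₀ n₁ h)).trans comp_zero
  exact₃ S hS n₀ n₁ h := by
    let T := (nonempty_sesRes hS).some
    have e' := HomologicalComplex.congr_hom T.ι_g 0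
    simp only [HomologicalComplex.comp_f, CochainComplex.single₀_map_f_zero] at e'
    refine (ShortComplex.exact_iff_of_iso ?_).2 ((T.map_shortExact F).homology_exact₃ n₀ n₁ h)
    exact ShortComplex.isoMk (T.I₂.isoRightDerivedObj F n₀) (T.I₃.isoRightDerivedObj F n₀) (T.I₁.isoRightDerivedObj F n₁)
      (InjectiveResolution.isoRightDerivedObj_hom_naturality S.g T.I₂ T.I₃ T.g e' F n₀).symm
      (T.delta_comp_isoRightDerivedObj_hom F n₀ n₁ h).symm
  δ_comp S hS n₀ n₁ h := by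
    let T := (nonempty_sesRes hS).some
    have e := HomologicalComplex.congr_hom T.ι_f 0
    simp only [HomologicalComplex.comp_f, CochainComplex.single₀_map_f_zero] at e
    rw [← cancel_mono (T.I₂.isoRightDerivedObj F n₁).hom, Category.assoc,
      InjectiveResolution.isoRightDerivedObj_hom_naturality S.f T.I₁ T.I₂ T.f e F n₁,
      T.delta_comp_isoRightDerivedObj_hom_assoc, zero_comp]
    exact (Category.assoc _ _ _).trans ((congrArg ((T.I₃.isoRightDerivedObj F n₀).hom ≫ ·)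
      ((T.map_shortExact F).δ_comp n₀ n₁ h)).trans comp_zero)
  exact₁ S hS n₀ n₁ h := by
    let T := (nonempty_sesRes hS).some
    have e := HomologicalComplex.congr_hom T.ι_f 0
    simp only [HomologicalComplex.comp_f, CochainComplex.single₀_map_f_zero] at e
    refine (ShortComplex.exact_iff_of_iso ?_).2 ((T.map_shortExact F).homology_exact₁ n₀ n₁ h)
    exact ShortComplex.isoMk (T.I₃.isoRightDerivedObj F n₀) (T.I₁.isoRightDerivedObj F n₁) (T.I₂.isoRightDerivedObj F n₁)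
      (T.delta_comp_isoRightDerivedObj_hom F n₀ n₁ h).symm
      (InjectiveResolution.isoRightDerivedObj_hom_naturality S.f T.I₁ T.I₂ T.f e F n₁).symm

end Groth.L10.RDerSES
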