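import Groth.Agent.L00.RPlusUnit

/-! Composition of bounded below right derived functors when injectives are preserved. -/

universe w w' w'' v v' v'' u u' u''

open CategoryTheory CategoryTheory.Limits

set_option backward.defeqAttrib.useBackward true
set_option backward.isDefEq.respectTransparency false
namespace Groth.L10.CompPlus

variable {A : Type u} [Category.{v} A] [Abelian A] [HasDerivedCategory.{w} A] [EnoughInjectives A]
  {B : Type u'} [Category.{v'} B] [Abelian B] [HasDerivedCategory.{w'} B] [EnoughInjectives B]
  {C : Type u''} [Category.{v''} C] [Abelian C] [HasDerivedCategory.{w''} C]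
  (F : A ⥤ B) [F.Additive] (G : B ⥤ C) [G.Additive]

/-- The unit of the composite. -/
noncomputable abbrev unit :=
  Functor.whiskerRight (Functor.mapHomotopyCategoryPlusCompIso (Iso.refl (F ⋙ G))).inv DerivedCategory.Plus.Qh
    ≫ (Functor.associator _ _ _).hom
    ≫ Functor.whiskerLeft F.mapHomotopyCategoryPlus G.rightDerivedFunctorPlusUnit
    ≫ (Functor.associator _ _ _).inv
    ≫ Functor.whiskerRight F.rightDerivedFunctorPlusUnit G.rightDerivedFunctorPlus
    ≫ (Functor.associator _ _ _).hom

theorem isRightDerivedFunctor (hF : ∀ I : A, Injective I → Injective (F.obj I)) :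
    (F.rightDerivedFunctorPlus ⋙ G.rightDerivedFunctorPlus).IsRightDerivedFunctor (unit F G)
      (HomotopyCategory.Plus.quasiIso A) := by
  refine (HomotopyCategory.Plus.localizerMorphism_derives _).isRightDerivedFunctor_of_isIso _ fun X => ?_
  obtain ⟨K, rfl⟩ := HomotopyCategory.Plus.quotient_obj_surjective X
  let L : CochainComplex.Plus A := (InjectiveObject.ι A).mapCochainComplexPlus.obj K
  change IsIso (NatTrans.app _ ((HomotopyCategory.Plus.quotient A).obj L))
  have hinj : ∀ n, Injective (L.obj.X n) := fun n => inferInstanceAs (Injective (((InjectiveObject.ι A).obj (K.obj.X n))))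
  have : IsIso (F.rightDerivedFunctorPlusUnit.app ((HomotopyCategory.Plus.quotient A).obj L)) := inferInstance
  have hFinj : ∀ n, Injective ((F.mapHomotopyCategoryPlus.obj ((HomotopyCategory.Plus.quotient A).obj L)).obj.as.X n) :=
    fun n => hF _ (hinj n)
  have : IsIso (G.rightDerivedFunctorPlusUnit.app
      (F.mapHomotopyCategoryPlus.obj ((HomotopyCategory.Plus.quotient A).obj L))) := inferInstance
  simp only [unit, NatTrans.comp_app, Functor.whiskerRight_app, Functor.whiskerLeft_app, Functor.associator_hom_app,
    Functor.associator_inv_app]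
  infer_instance

variable {F G}

theorem nonempty_iso {H : A ⥤ C} [H.Additive] (e : F ⋙ G ≅ H) (hF : ∀ I : A, Injective I → Injective (F.obj I)) :
    Nonempty (F.rightDerivedFunctorPlus ⋙ G.rightDerivedFunctorPlus ≅ H.rightDerivedFunctorPlus) := by
  have := isRightDerivedFunctor F G hF
  exact ⟨Functor.rightDerivedNatIso _ _ (unit F G) H.rightDerivedFunctorPlusUnit (HomotopyCategory.Plus.quasiIso A)
    (Functor.isoWhiskerRight ((Functor.mapHomotopyCategoryPlusCompIso (Iso.refl (F ⋙ G))).symm ≪≫
      Functor.mapHomotopyCategoryPlusCompIso e) DerivedCategory.Plus.Qh)⟩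

end Groth.L10.CompPlus
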