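import Groth.Agent.L10.ClassRes
import Groth.Agent.L00.ClassResLeft
import Mathlib.Algebra.Homology.HomologySequenceLemmas
import Mathlib.Algebra.Homology.HomologicalComplexAbelian
import Mathlib.CategoryTheory.Preadditive.Injective.Basic
import Mathlib.CategoryTheory.Preadditive.Projective.Basic
import Mathlib.CategoryTheory.Abelian.Pseudoelements
import Mathlib.Algebra.Homology.DerivedCategory.ShortExact

/-! Resolutions of short exact sequences of bounded complexes. -/

universe v u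

open CategoryTheory ZeroObject CategoryTheory.Limits

set_option backward.defeqAttrib.useBackward true
set_option backward.isDefEq.respectTransparency false
namespace Groth.L10.SESRes

variable {A : Type u} [Category.{v} A] [Abelian A]

theorem quasiIso_g {T : ShortComplex (CochainComplex A ℤ)} (hT : T.ShortExact) (h : T.X₁.Acyclic) : QuasiIso T.g := by
  rw [quasiIso_iff]
  intro n
  rw [quasiIsoAt_iff_isIso_homologyMap]
  have := (hT.homology_exact₂ n).mono_g ((h n).isZero_homology.eq_of_src _ _)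
  have := (hT.homology_exact₃ n (n + 1) rfl).epi_f ((h (n + 1)).isZero_homology.eq_of_tgt _ _)
  exact isIso_of_mono_of_epi _

theorem quasiIso_f {T : ShortComplex (CochainComplex A ℤ)} (hT : T.ShortExact) (h : T.X₃.Acyclic) : QuasiIso T.f := by
  rw [quasiIso_iff]
  intro n
  rw [quasiIsoAt_iff_isIso_homologyMap]
  have := (hT.homology_exact₂ n).epi_f ((h n).isZero_homology.eq_of_tgt _ _)
  have := (hT.homology_exact₁ (n - 1) n (by simp)).mono_g ((h (n - 1)).isZero_homology.eq_of_src _ _)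
  exact isIso_of_mono_of_epi _

theorem quasiIso_τ₁ {S₁ S₂ : ShortComplex (CochainComplex A ℤ)} (φ : S₁ ⟶ S₂) (h₁ : S₁.ShortExact) (h₂ : S₂.ShortExact)
    (i₂ : QuasiIso φ.τ₂) (i₃ : QuasiIso φ.τ₃) : QuasiIso φ.τ₁ := by
  let := HasDerivedCategory.standard A
  rw [← DerivedCategory.isIso_Q_map_iff_quasiIso] at i₂ i₃ ⊢
  exact Pretriangulated.isIso₁_of_isIso₂₃ (DerivedCategory.triangleOfSES.map h₁ h₂ φ)
    (DerivedCategory.triangleOfSES_distinguished _) (DerivedCategory.triangleOfSES_distinguished _) i₂ i₃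

theorem acyclic_cokernel {X I : CochainComplex A ℤ} (ι : X ⟶ I) [Mono ι] [QuasiIso ι] : (cokernel ι).Acyclic :=
  ShortComplex.ShortExact.acyclic_X₃
    ({ exact := ShortComplex.exact_cokernel ι } : (ShortComplex.mk ι (cokernel.π ι) (cokernel.condition ι)).ShortExact)
    inferInstance

theorem acyclic_kernel {Q X : CochainComplex A ℤ} (p : Q ⟶ X) [Epi p] [QuasiIso p] : (kernel p).Acyclic :=
  ShortComplex.ShortExact.acyclic_X₁
    ({ exact := ShortComplex.exact_kernel p } : (ShortComplex.mk (kernel.ι p) p (kernel.condition p)).ShortExact)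
    inferInstance

theorem isStrictlyGE_of_mono {X Y : CochainComplex A ℤ} (f : X ⟶ Y) [Mono f] (n : ℤ) [Y.IsStrictlyGE n] :
    X.IsStrictlyGE n := by
  rw [CochainComplex.isStrictlyGE_iff]
  exact fun i hi => IsZero.of_mono (f.f i) (CochainComplex.isZero_of_isStrictlyGE Y n i hi)

theorem isStrictlyGE_of_epi {X Y : CochainComplex A ℤ} (f : X ⟶ Y) [Epi f] (n : ℤ) [X.IsStrictlyGE n] :
    Y.IsStrictlyGE n := by
  rw [CochainComplex.isStrictlyGE_iff]
  exact fun i hi => IsZero.of_epi (f.f i) (CochainComplex.isZero_of_isStrictlyGE X n i hi)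

theorem isStrictlyLE_of_mono {X Y : CochainComplex A ℤ} (f : X ⟶ Y) [Mono f] (n : ℤ) [Y.IsStrictlyLE n] :
    X.IsStrictlyLE n := by
  rw [CochainComplex.isStrictlyLE_iff]
  exact fun i hi => IsZero.of_mono (f.f i) (CochainComplex.isZero_of_isStrictlyLE Y n i hi)

theorem isZero_biprod {X Y : A} (hX : IsZero X) (hY : IsZero Y) : IsZero (X ⊞ Y) :=
  (IsZero.iff_id_eq_zero _).2 (biprod.hom_ext _ _ (hX.eq_of_tgt _ _) (hY.eq_of_tgt _ _))

section injective

variable {S : ShortComplex (CochainComplex A ℤ)} (hS : S.ShortExact) (n : ℤ)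
  [S.X₁.IsStrictlyGE n] [S.X₂.IsStrictlyGE n] [S.X₃.IsStrictlyGE n] [EnoughInjectives A]

include hS in
/-- Injective resolution of a short exact sequence. -/
theorem exists_injective :
    ∃ (T : ShortComplex (CochainComplex A ℤ)) (φ : S ⟶ T), T.ShortExact ∧
      T.X₁.IsStrictlyGE n ∧ T.X₂.IsStrictlyGE n ∧ T.X₃.IsStrictlyGE n ∧
      (∀ k : ℤ, Injective (T.X₁.X k) ∧ Injective (T.X₂.X k) ∧ Injective (T.X₃.X k)) ∧
      QuasiIso φ.τ₁ ∧ QuasiIso φ.τ₂ ∧ QuasiIso φ.τ₃ := by
  have hI : ∀ X : A, ∃ (Y : A) (ι : X ⟶ Y), Injective Y ∧ Mono ι := fun X =>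
    ⟨Injective.under X, Injective.ι X, inferInstance, inferInstance⟩
  have hI0 : ∃ Z : A, IsZero Z ∧ Injective Z :=
    ⟨0, isZero_zero A, (isZero_zero A).injective⟩
  obtain ⟨I₁, ι₁, hI₁, hi₁, hm₁, hq₁⟩ := Groth.L10.ClassRes.exists_res (fun Y : A => Injective Y) hI hI0 S.X₁ n
  have := HomologicalComplex.mono_of_mono_f ι₁ hm₁
  have := hS.mono_f
  have := hS.epi_g
  let P := pushout ι₁ S.f
  let inlP : I₁ ⟶ P := pushout.inl ι₁ S.f
  let inrP : S.X₂ ⟶ P := pushout.inr ι₁ S.f
  let q : P ⟶ S.X₃ := pushout.desc 0 S.g (by rw [comp_zero, S.zero])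
  have w1 : inlP ≫ q = 0 := pushout.inl_desc _ _ _
  have w2 : inrP ≫ q = S.g := pushout.inr_desc _ _ _
  have hcond : ι₁ ≫ inlP = S.f ≫ inrP := pushout.condition
  have : Mono inlP := inferInstanceAs (Mono (pushout.inl ι₁ S.f))
  have : Mono inrP := inferInstanceAs (Mono (pushout.inr ι₁ S.f))
  have : Epi q := epi_of_epi_fac w2
  have hE : (ShortComplex.mk inlP q w1).ShortExact :=
    { exact := ShortComplex.exact_of_g_is_cokernel _ (CokernelCofork.IsColimit.ofπ' q w1 fun {T} y hy => by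
        have h : S.f ≫ inrP ≫ y = 0 := by rw [← reassoc_of% hcond, hy, comp_zero]
        refine ⟨hS.exact.desc _ h, ?_⟩
        apply pushout.hom_ext
        · change inlP ≫ q ≫ _ = inlP ≫ y
          rw [reassoc_of% w1, zero_comp, hy]
        · change inrP ≫ q ≫ _ = inrP ≫ y
          rw [reassoc_of% w2, hS.exact.g_desc]) }
  let r : P ⟶ cokernel ι₁ := pushout.desc (cokernel.π ι₁) 0 (by rw [cokernel.condition, comp_zero])
  have v1 : inrP ≫ r = 0 := pushout.inr_desc _ _ _
  have v2 : inlP ≫ r = cokernel.π ι₁ := pushout.inl_desc _ _ _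
  have : Epi r := epi_of_epi_fac v2
  have hR : (ShortComplex.mk inrP r v1).ShortExact :=
    { exact := ShortComplex.exact_of_g_is_cokernel _ (CokernelCofork.IsColimit.ofπ' r v1 fun {T} y hy => by
        have h : ι₁ ≫ inlP ≫ y = 0 := by rw [reassoc_of% hcond, hy, comp_zero]
        refine ⟨cokernel.desc ι₁ _ h, ?_⟩
        apply pushout.hom_ext
        · change inlP ≫ r ≫ _ = inlP ≫ y
          rw [reassoc_of% v2, cokernel.π_desc]
        · change inrP ≫ r ≫ _ = inrP ≫ y
          rw [reassoc_of% v1, zero_comp, hy]) }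
  have hqP : QuasiIso inrP := quasiIso_f hR (acyclic_cokernel ι₁)
  have hP : P.IsStrictlyGE n := by
    rw [CochainComplex.isStrictlyGE_iff]
    intro i hi
    exact ((hE.map_of_exact (HomologicalComplex.eval A (ComplexShape.up ℤ) i)).exact).isZero_X₂
      ((CochainComplex.isZero_of_isStrictlyGE I₁ n i hi).eq_of_src _ _)
      ((CochainComplex.isZero_of_isStrictlyGE S.X₃ n i hi).eq_of_tgt _ _)
  obtain ⟨I₂, ι₂, hI₂, hi₂, hm₂, hq₂⟩ := Groth.L10.ClassRes.exists_res (fun Y : A => Injective Y) hI hI0 P n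
  have := HomologicalComplex.mono_of_mono_f ι₂ hm₂
  let u : I₁ ⟶ I₂ := inlP ≫ ι₂
  let T : ShortComplex (CochainComplex A ℤ) := ShortComplex.mk u (cokernel.π u) (cokernel.condition u)
  have hT : T.ShortExact := { exact := ShortComplex.exact_cokernel u }
  let φ : S ⟶ T :=
    { τ₁ := ι₁
      τ₂ := inrP ≫ ι₂
      τ₃ := hS.exact.desc (inrP ≫ ι₂ ≫ cokernel.π u) (by
        rw [← reassoc_of% hcond]; simp only [u, ← Category.assoc]; rw [Category.assoc ι₁, Category.assoc ι₁]
        exact (congrArg (ι₁ ≫ ·) (cokernel.condition u)).trans comp_zero)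
      comm₁₂ := by change ι₁ ≫ inlP ≫ ι₂ = S.f ≫ inrP ≫ ι₂; rw [reassoc_of% hcond]
      comm₂₃ := by simp [T] }
  have h2 : QuasiIso φ.τ₂ := inferInstanceAs (QuasiIso (inrP ≫ ι₂))
  refine ⟨T, φ, hT, hI₁, hI₂, isStrictlyGE_of_epi (cokernel.π u) n, fun k => ⟨hi₁ k, hi₂ k, ?_⟩, hq₁, h2,
    HomologicalComplex.HomologySequence.quasiIso_τ₃ φ hS hT hq₁ h2⟩
  have hk := hT.map_of_exact (HomologicalComplex.eval A (ComplexShape.up ℤ) k)
  have := hk.mono_f
  have := hi₁ k
  have := hi₂ k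
  have : Injective ((T.map (HomologicalComplex.eval A (ComplexShape.up ℤ) k)).X₁) := hi₁ k
  let σ := ShortComplex.Splitting.ofExactOfRetraction _ hk.exact
    (Injective.factorThru (𝟙 _) (T.map (HomologicalComplex.eval A (ComplexShape.up ℤ) k)).f) (by simp) hk.epi_g
  have : Injective ((T.map (HomologicalComplex.eval A (ComplexShape.up ℤ) k)).X₂) := hi₂ k
  exact Retract.injective ⟨σ.s, (T.map (HomologicalComplex.eval A (ComplexShape.up ℤ) k)).g, σ.s_g⟩

end injective

section projective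

variable {S : ShortComplex (CochainComplex A ℤ)} (hS : S.ShortExact) (n : ℤ)
  [S.X₁.IsStrictlyLE n] [S.X₂.IsStrictlyLE n] [S.X₃.IsStrictlyLE n] [EnoughProjectives A]

include hS in
/-- Projective resolution of a short exact sequence. -/
theorem exists_projective :
    ∃ (T : ShortComplex (CochainComplex A ℤ)) (φ : T ⟶ S), T.ShortExact ∧
      T.X₁.IsStrictlyLE n ∧ T.X₂.IsStrictlyLE n ∧ T.X₃.IsStrictlyLE n ∧
      (∀ k : ℤ, Projective (T.X₁.X k) ∧ Projective (T.X₂.X k) ∧ Projective (T.X₃.X k)) ∧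
      QuasiIso φ.τ₁ ∧ QuasiIso φ.τ₂ ∧ QuasiIso φ.τ₃ := by
  have hP : ∀ X : A, ∃ (Y : A) (π : Y ⟶ X), Projective Y ∧ Epi π := fun X =>
    ⟨Projective.over X, Projective.π X, inferInstance, inferInstance⟩
  have hP0 : ∃ Z : A, IsZero Z ∧ Projective Z :=
    ⟨0, isZero_zero A, (isZero_zero A).projective⟩
  obtain ⟨Q₃, p₃, hQ₃, hp₃, he₃, hq₃⟩ := Groth.L00.ClassResLeft.exists_res (fun Y : A => Projective Y) hP0 hP S.X₃ n
  have := HomologicalComplex.epi_of_epi_f p₃ he₃
  have := hS.mono_f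
  have := hS.epi_g
  let P := pullback S.g p₃
  let fstP : P ⟶ S.X₂ := pullback.fst S.g p₃
  let sndP : P ⟶ Q₃ := pullback.snd S.g p₃
  let j : S.X₁ ⟶ P := pullback.lift S.f 0 (by rw [zero_comp, S.zero])
  have w1 : j ≫ sndP = 0 := pullback.lift_snd _ _ _
  have w2 : j ≫ fstP = S.f := pullback.lift_fst _ _ _
  have hcond : fstP ≫ S.g = sndP ≫ p₃ := pullback.condition
  have : Epi sndP := inferInstanceAs (Epi (pullback.snd S.g p₃))
  have : Epi fstP := inferInstanceAs (Epi (pullback.fst S.g p₃))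
  have : Mono j := mono_of_mono_fac w2
  have hE : (ShortComplex.mk j sndP w1).ShortExact :=
    { exact := ShortComplex.exact_of_f_is_kernel _ (KernelFork.IsLimit.ofι' j w1 fun {T} y hy => by
        have h : (y ≫ fstP) ≫ S.g = 0 := by rw [Category.assoc, hcond, reassoc_of% hy, zero_comp]
        refine ⟨hS.exact.lift _ h, ?_⟩
        apply pullback.hom_ext
        · change (_ ≫ j) ≫ fstP = y ≫ fstP
          rw [Category.assoc, w2, hS.exact.lift_f]
        · change (_ ≫ j) ≫ sndP = y ≫ sndP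
          rw [Category.assoc, w1, comp_zero, hy]) }
  let r : kernel p₃ ⟶ P := pullback.lift 0 (kernel.ι p₃) (by rw [zero_comp, kernel.condition])
  have v1 : r ≫ fstP = 0 := pullback.lift_fst _ _ _
  have v2 : r ≫ sndP = kernel.ι p₃ := pullback.lift_snd _ _ _
  have : Mono r := mono_of_mono_fac v2
  have hR : (ShortComplex.mk r fstP v1).ShortExact :=
    { exact := ShortComplex.exact_of_f_is_kernel _ (KernelFork.IsLimit.ofι' r v1 fun {T} y hy => by
        have h : (y ≫ sndP) ≫ p₃ = 0 := by rw [Category.assoc, ← hcond, reassoc_of% hy, zero_comp]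
        refine ⟨kernel.lift p₃ _ h, ?_⟩
        apply pullback.hom_ext
        · change (_ ≫ r) ≫ fstP = y ≫ fstP
          rw [Category.assoc, v1, comp_zero, hy]
        · change (_ ≫ r) ≫ sndP = y ≫ sndP
          rw [Category.assoc, v2, kernel.lift_ι]) }
  have hqP : QuasiIso fstP := quasiIso_g hR (acyclic_kernel p₃)
  have hPle : P.IsStrictlyLE n := by
    rw [CochainComplex.isStrictlyLE_iff]
    intro i hi
    exact ((hE.map_of_exact (HomologicalComplex.eval A (ComplexShape.up ℤ) i)).exact).isZero_X₂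
      ((CochainComplex.isZero_of_isStrictlyLE S.X₁ n i hi).eq_of_src _ _)
      ((CochainComplex.isZero_of_isStrictlyLE Q₃ n i hi).eq_of_tgt _ _)
  obtain ⟨Q₂, p₂, hQ₂, hp₂, he₂, hq₂⟩ := Groth.L00.ClassResLeft.exists_res (fun Y : A => Projective Y) hP0 hP P n
  have := HomologicalComplex.epi_of_epi_f p₂ he₂
  let u : Q₂ ⟶ Q₃ := p₂ ≫ sndP
  let T : ShortComplex (CochainComplex A ℤ) := ShortComplex.mk (kernel.ι u) u (kernel.condition u)
  have hT : T.ShortExact := { exact := ShortComplex.exact_kernel u }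
  let φ : T ⟶ S :=
    { τ₁ := hS.exact.lift (kernel.ι u ≫ p₂ ≫ fstP) (by
        rw [Category.assoc, Category.assoc, hcond, ← Category.assoc p₂, ← Category.assoc (kernel.ι u)]
        exact (congrArg (· ≫ p₃) (kernel.condition u)).trans zero_comp)
      τ₂ := p₂ ≫ fstP
      τ₃ := p₃
      comm₁₂ := by simp [T]
      comm₂₃ := by change (p₂ ≫ fstP) ≫ S.g = (p₂ ≫ sndP) ≫ p₃; rw [Category.assoc, hcond, Category.assoc] }
  have h2 : QuasiIso φ.τ₂ := inferInstanceAs (QuasiIso (p₂ ≫ fstP))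
  refine ⟨T, φ, hT, isStrictlyLE_of_mono (kernel.ι u) n, hQ₂, hQ₃, fun k => ⟨?_, hp₂ k, hp₃ k⟩,
    quasiIso_τ₁ φ hT hS h2 hq₃, h2, hq₃⟩
  have hk := hT.map_of_exact (HomologicalComplex.eval A (ComplexShape.up ℤ) k)
  have := hk.epi_g
  have : Projective ((T.map (HomologicalComplex.eval A (ComplexShape.up ℤ) k)).X₃) := hp₃ k
  let σ := ShortComplex.Splitting.ofExactOfSection _ hk.exact
    (Projective.factorThru (𝟙 _) (T.map (HomologicalComplex.eval A (ComplexShape.up ℤ) k)).g) (by simp) hk.mono_f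
  have : Projective ((T.map (HomologicalComplex.eval A (ComplexShape.up ℤ) k)).X₂) := hp₂ k
  exact Retract.projective ⟨(T.map (HomologicalComplex.eval A (ComplexShape.up ℤ) k)).f, σ.r, σ.f_r⟩

end projective

end Groth.L10.SESRes
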