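import Groth.Prelude.Def_RDerDelta
import Mathlib.CategoryTheory.Abelian.Injective.Resolution
import Mathlib.CategoryTheory.Abelian.RightDerived
import Mathlib.CategoryTheory.Abelian.Refinements
import Mathlib.Algebra.Homology.HomologySequenceLemmas

/-! Morphisms of injective resolutions of short exact sequences. -/

universe v u v' u'

open CategoryTheory CategoryTheory.Limits

set_option backward.defeqAttrib.useBackward true
set_option backward.isDefEq.respectTransparency false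
namespace Groth.L10.RDerSES

variable {C : Type u} [Category.{v} C] [Abelian C]

/-- Extension of a map into an injective along a map with smaller kernel. -/
theorem exists_factor {P Q J : C} [Injective J] (u : P ⟶ Q) (v : P ⟶ J)
    (h : ∀ ⦃T : C⦄ (x : T ⟶ P), x ≫ u = 0 → x ≫ v = 0) : ∃ w : Q ⟶ J, u ≫ w = v := by
  have he : (ShortComplex.mk (kernel.ι u) u (kernel.condition u)).Exact := ShortComplex.exact_kernel u
  exact ⟨he.descToInjective v (h _ (kernel.condition u)), he.comp_descToInjective _ _⟩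

theorem cycle₀ {X : C} (I : InjectiveResolution X) {T : C} (z : T ⟶ I.cocomplex.X 0) (hz : z ≫ I.cocomplex.d 0 1 = 0) :
    ∃ x : T ⟶ X, x ≫ I.ι.f 0 = z := by
  have he := I.exact₀
  have : Mono (ShortComplex.mk _ _ I.ι_f_zero_comp_complex_d).f := inferInstanceAs (Mono (I.ι.f 0))
  exact ⟨he.lift z hz, he.lift_f z hz⟩

theorem cycle_succ {X : C} (I : InjectiveResolution X) (n : ℕ) {T : C} (z : T ⟶ I.cocomplex.X (n + 1))
    (hz : z ≫ I.cocomplex.d (n + 1) (n + 2) = 0) :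
    ∃ (T' : C) (π : T' ⟶ T) (_ : Epi π) (c : T' ⟶ I.cocomplex.X n), π ≫ z = c ≫ I.cocomplex.d n (n + 1) :=
  (I.exact_succ n).exact_up_to_refinements z hz

variable {S S' : ShortComplex C} (T : RDer.SESRes S) (T' : RDer.SESRes S') (ψ : S ⟶ S')

/-- The map on the first resolutions. -/
noncomputable abbrev d₁ : T.I₁.cocomplex ⟶ T'.I₁.cocomplex := InjectiveResolution.desc ψ.τ₁ T'.I₁ T.I₁

/-- The invariant of the construction. -/
def Ok (n : ℕ) (φ : T.I₂.cocomplex.X n ⟶ T'.I₂.cocomplex.X n) : Prop :=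
  T.f.f n ≫ φ = (d₁ T T' ψ).f n ≫ T'.f.f n ∧
    ∀ ⦃P : C⦄ (a : P ⟶ T.I₂.cocomplex.X n), a ≫ T.I₂.cocomplex.d n (n + 1) = 0 →
      a ≫ φ ≫ T'.I₂.cocomplex.d n (n + 1) = 0

theorem deg_exact (n : ℕ) {P : C} (a : P ⟶ T.I₂.cocomplex.X n) (h : a ≫ T.g.f n = 0) :
    ∃ y : P ⟶ T.I₁.cocomplex.X n, y ≫ T.f.f n = a := by
  have hS := T.shortExact.map_of_exact (HomologicalComplex.eval C _ n)
  have := hS.mono_f
  exact ⟨hS.exact.lift a h, hS.exact.lift_f a h⟩

variable (hS : S.ShortExact)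

include hS in
theorem lift_cycle (n : ℕ) {P : C} (z : P ⟶ T.I₃.cocomplex.X n) (hz : z ≫ T.I₃.cocomplex.d n (n + 1) = 0) :
    ∃ (P' : C) (π : P' ⟶ P) (_ : Epi π) (e : P' ⟶ T.I₂.cocomplex.X n),
      e ≫ T.I₂.cocomplex.d n (n + 1) = 0 ∧ π ≫ z = e ≫ T.g.f n := by
  rcases n with _ | n
  · obtain ⟨x, hx⟩ := cycle₀ T.I₃ z hz
    have := hS.epi_g
    obtain ⟨P', π, hπ, x', hx'⟩ := surjective_up_to_refinements_of_epi S.g x
    have hι := HomologicalComplex.congr_hom T.ι_g 0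
    simp only [HomologicalComplex.comp_f, CochainComplex.single₀_map_f_zero] at hι
    refine ⟨P', π, hπ, x' ≫ T.I₂.ι.f 0, ?_, ?_⟩
    · rw [Category.assoc, T.I₂.ι_f_zero_comp_complex_d]; exact comp_zero
    · rw [← hx, reassoc_of% hx', Category.assoc]; exact congrArg (x' ≫ ·) hι.symm
  · obtain ⟨P₁, π₁, hπ₁, c, hc⟩ := cycle_succ T.I₃ n z hz
    have : Epi (T.g.f n) := (T.shortExact.map_of_exact (HomologicalComplex.eval C _ n)).epi_g
    obtain ⟨P₂, π₂, hπ₂, c', hc'⟩ := surjective_up_to_refinements_of_epi (T.g.f n) c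
    refine ⟨P₂, π₂ ≫ π₁, epi_comp _ _, c' ≫ T.I₂.cocomplex.d n (n + 1), by simp, ?_⟩
    rw [Category.assoc, hc, reassoc_of% hc', Category.assoc, T.g.comm]

include hS in
theorem exists_zero :
    ∃ φ : T.I₂.cocomplex.X 0 ⟶ T'.I₂.cocomplex.X 0,
      T.I₂.ι.f 0 ≫ φ = ψ.τ₂ ≫ T'.I₂.ι.f 0 ∧ T.f.f 0 ≫ φ = (d₁ T T' ψ).f 0 ≫ T'.f.f 0 := by
  have h1 := HomologicalComplex.congr_hom T.ι_f 0
  have h1' := HomologicalComplex.congr_hom T'.ι_f 0
  have h3 := HomologicalComplex.congr_hom T.ι_g 0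
  simp only [HomologicalComplex.comp_f, CochainComplex.single₀_map_f_zero] at h1 h1' h3
  obtain ⟨φ, hφ⟩ := exists_factor (biprod.desc (T.I₂.ι.f 0 : S.X₂ ⟶ T.I₂.cocomplex.X 0) (T.f.f 0))
    (biprod.desc (ψ.τ₂ ≫ T'.I₂.ι.f 0) ((d₁ T T' ψ).f 0 ≫ T'.f.f 0)) (fun P x hx => by
      obtain ⟨p, q, rfl⟩ : ∃ p q, x = biprod.lift p q := ⟨x ≫ biprod.fst, x ≫ biprod.snd, by ext <;> simp⟩
      rw [biprod.lift_desc] at hx ⊢
      have hg : p ≫ S.g = 0 := by
        have := congrArg (· ≫ T.g.f 0) hx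
        simp only [Preadditive.add_comp, Category.assoc, ← HomologicalComplex.comp_f, T.zero,
          HomologicalComplex.zero_f, comp_zero, add_zero, zero_comp] at this
        rw [HomologicalComplex.comp_f, h3, ← Category.assoc] at this
        exact (cancel_mono (T.I₃.ι.f 0)).1 (this.trans zero_comp.symm)
      have hSe : S.Exact := hS.exact
      have := hS.mono_f
      obtain ⟨w, rfl⟩ : ∃ w, w ≫ S.f = p := ⟨hSe.lift p hg, hSe.lift_f p hg⟩
      have : Mono (T.f.f 0) := (T.shortExact.map_of_exact (HomologicalComplex.eval C _ 0)).mono_f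
      have hq : q = -(w ≫ T.I₁.ι.f 0) := by
        rw [← cancel_mono (T.f.f 0), Preadditive.neg_comp, Category.assoc, h1, eq_neg_iff_add_eq_zero, add_comm,
          ← Category.assoc w]
        exact hx
      rw [hq, Preadditive.neg_comp, Category.assoc w (T.I₁.ι.f 0), InjectiveResolution.desc_commutes_zero_assoc,
        Category.assoc w, ← ψ.comm₁₂_assoc, ← h1']
      simp)
  refine ⟨φ, ?_, ?_⟩
  · have := congrArg (biprod.inl ≫ ·) hφ
    simpa using this
  · have := congrArg (biprod.inr ≫ ·) hφ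
    simpa using this

include hS in
theorem exists_succ (n : ℕ) (φ : T.I₂.cocomplex.X n ⟶ T'.I₂.cocomplex.X n) (h : Ok T T' ψ n φ) :
    ∃ φ' : T.I₂.cocomplex.X (n + 1) ⟶ T'.I₂.cocomplex.X (n + 1),
      T.I₂.cocomplex.d n (n + 1) ≫ φ' = φ ≫ T'.I₂.cocomplex.d n (n + 1) ∧ Ok T T' ψ (n + 1) φ' := by
  obtain ⟨φ', hφ⟩ := exists_factor (biprod.desc (T.I₂.cocomplex.d n (n + 1)) (T.f.f (n + 1)))
    (biprod.desc (φ ≫ T'.I₂.cocomplex.d n (n + 1)) ((d₁ T T' ψ).f (n + 1) ≫ T'.f.f (n + 1))) (fun P x hx => by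
      obtain ⟨a, b, rfl⟩ : ∃ a b, x = biprod.lift a b := ⟨x ≫ biprod.fst, x ≫ biprod.snd, by ext <;> simp⟩
      rw [biprod.lift_desc] at hx ⊢
      have hg : (a ≫ T.g.f n) ≫ T.I₃.cocomplex.d n (n + 1) = 0 := by
        have := congrArg (· ≫ T.g.f (n + 1)) hx
        simp only [Preadditive.add_comp, Category.assoc, ← HomologicalComplex.comp_f, T.zero,
          HomologicalComplex.zero_f, comp_zero, add_zero, zero_comp] at this
        rw [Category.assoc, T.g.comm]
        exact this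
      obtain ⟨P', π, hπ, e, he, he'⟩ := lift_cycle T hS n (a ≫ T.g.f n) hg
      obtain ⟨y, hy⟩ := deg_exact T n (π ≫ a - e) (by rw [Preadditive.sub_comp, Category.assoc, he', sub_self])
      have ha : π ≫ a = y ≫ T.f.f n + e := by rw [hy, sub_add_cancel]
      have : Mono (T.f.f (n + 1)) := (T.shortExact.map_of_exact (HomologicalComplex.eval C _ (n + 1))).mono_f
      have hb : π ≫ b = -(y ≫ T.I₁.cocomplex.d n (n + 1)) := by
        rw [← cancel_mono (T.f.f (n + 1)), Preadditive.neg_comp, Category.assoc y, ← T.f.comm, eq_neg_iff_add_eq_zero,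
          ← Category.assoc y, eq_sub_iff_add_eq.2 ha.symm, Preadditive.sub_comp, he, sub_zero,
          Category.assoc, Category.assoc, ← Preadditive.comp_add, add_comm (b ≫ _) (a ≫ _), hx, comp_zero]
      rw [← cancel_epi π, comp_zero, Preadditive.comp_add, reassoc_of% ha, reassoc_of% hb]
      simp only [Preadditive.add_comp, Preadditive.neg_comp, Category.assoc]
      rw [h.2 e he, add_zero, reassoc_of% h.1, T'.f.comm, HomologicalComplex.Hom.comm_assoc]
      exact add_neg_cancel _)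
  have h₁ : T.I₂.cocomplex.d n (n + 1) ≫ φ' = φ ≫ T'.I₂.cocomplex.d n (n + 1) := by
    have := congrArg (biprod.inl ≫ ·) hφ
    simpa using this
  refine ⟨φ', h₁, by have := congrArg (biprod.inr ≫ ·) hφ; simpa using this, fun P a ha => ?_⟩
  obtain ⟨P', π, hπ, c, hc⟩ := cycle_succ T.I₂ n a ha
  rw [← cancel_epi π, comp_zero, reassoc_of% hc, reassoc_of% h₁, HomologicalComplex.d_comp_d, comp_zero, comp_zero]

/-- The components. -/
noncomputable def comp : ∀ n, {φ : T.I₂.cocomplex.X n ⟶ T'.I₂.cocomplex.X n // Ok T T' ψ n φ}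
  | 0 => ⟨(exists_zero T T' ψ hS).choose, (exists_zero T T' ψ hS).choose_spec.2, fun P a ha => by
      obtain ⟨x, rfl⟩ := cycle₀ T.I₂ a ha
      rw [Category.assoc, reassoc_of% (exists_zero T T' ψ hS).choose_spec.1, T'.I₂.ι_f_zero_comp_complex_d]
      exact (congrArg (x ≫ ·) comp_zero).trans comp_zero⟩
  | n + 1 => ⟨(exists_succ T T' ψ hS n (comp n).1 (comp n).2).choose,
      (exists_succ T T' ψ hS n (comp n).1 (comp n).2).choose_spec.2⟩

/-- The map on the middle resolutions. -/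
noncomputable def mid : T.I₂.cocomplex ⟶ T'.I₂.cocomplex where
  f n := (comp T T' ψ hS n).1
  comm' i j hij := by
    obtain rfl : i + 1 = j := hij
    exact (exists_succ T T' ψ hS i (comp T T' ψ hS i).1 (comp T T' ψ hS i).2).choose_spec.1.symm

theorem f_mid : T.f ≫ mid T T' ψ hS = d₁ T T' ψ ≫ T'.f := HomologicalComplex.hom_ext _ _ fun n => (comp T T' ψ hS n).2.1

theorem ι_mid : T.I₂.ι.f 0 ≫ (mid T T' ψ hS).f 0 = ψ.τ₂ ≫ T'.I₂.ι.f 0 :=
  (exists_zero T T' ψ hS).choose_spec.1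

include hS in
/-- The connecting morphisms are natural. -/
theorem delta_natural [HasInjectiveResolutions C] {D : Type u'} [Category.{v'} D] [Abelian D] (F : C ⥤ D) [F.Additive]
    (n₀ n₁ : ℕ) (h : n₀ + 1 = n₁) :
    (F.rightDerived n₀).map ψ.τ₃ ≫ T'.delta F n₀ n₁ h = T.delta F n₀ n₁ h ≫ (F.rightDerived n₁).map ψ.τ₁ := by
  have : Epi T.cx.g := T.shortExact.epi_g
  have hz : T.f ≫ mid T T' ψ hS ≫ T'.g = 0 := by rw [← Category.assoc, f_mid, Category.assoc, T'.zero, comp_zero]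
  let φ₃ : T.I₃.cocomplex ⟶ T'.I₃.cocomplex := T.shortExact.exact.desc (mid T T' ψ hS ≫ T'.g) hz
  have hφ₃ : T.g ≫ φ₃ = mid T T' ψ hS ≫ T'.g := T.shortExact.exact.g_desc _ hz
  have h₃ : T.I₃.ι.f 0 ≫ φ₃.f 0 = ψ.τ₃ ≫ T'.I₃.ι.f 0 := by
    have := hS.epi_g
    have e := HomologicalComplex.congr_hom T.ι_g 0
    have e' := HomologicalComplex.congr_hom T'.ι_g 0
    simp only [HomologicalComplex.comp_f, CochainComplex.single₀_map_f_zero] at e e'
    rw [← cancel_epi S.g, ← reassoc_of% e, ← HomologicalComplex.comp_f, hφ₃, HomologicalComplex.comp_f,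
      reassoc_of% (ι_mid T T' ψ hS), e', ψ.comm₂₃_assoc]
  have h₁ : T.I₁.ι.f 0 ≫ (d₁ T T' ψ).f 0 = ψ.τ₁ ≫ T'.I₁.ι.f 0 := InjectiveResolution.desc_commutes_zero _ _ _
  let Φ : T.cx.map (F.mapHomologicalComplex (ComplexShape.up ℕ)) ⟶ T'.cx.map (F.mapHomologicalComplex (ComplexShape.up ℕ)) :=
    { τ₁ := (F.mapHomologicalComplex _).map (d₁ T T' ψ)
      τ₂ := (F.mapHomologicalComplex _).map (mid T T' ψ hS)
      τ₃ := (F.mapHomologicalComplex _).map φ₃
      comm₁₂ := by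
        dsimp
        rw [← Functor.map_comp, ← Functor.map_comp, f_mid]
      comm₂₃ := by
        dsimp
        rw [← Functor.map_comp, ← Functor.map_comp, hφ₃] }
  have e₁ := InjectiveResolution.isoRightDerivedObj_hom_naturality ψ.τ₁ T.I₁ T'.I₁ (d₁ T T' ψ) h₁ F n₁
  have e₃ := InjectiveResolution.isoRightDerivedObj_hom_naturality ψ.τ₃ T.I₃ T'.I₃ φ₃ h₃ F n₀
  have eδ := HomologicalComplex.HomologySequence.δ_naturality Φ (T.map_shortExact F) (T'.map_shortExact F) n₀ n₁ h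
  rw [← cancel_mono (T'.I₁.isoRightDerivedObj F n₁).hom, Category.assoc, RDer.SESRes.delta_comp_isoRightDerivedObj_hom,
    reassoc_of% e₃, Category.assoc, e₁, RDer.SESRes.delta_comp_isoRightDerivedObj_hom_assoc]
  exact (congrArg ((T.I₃.isoRightDerivedObj F n₀).hom ≫ ·) eδ.symm).trans (Category.assoc _ _ _).symm

end Groth.L10.RDerSES
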